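import Cfsg.Agent.H355.FC.Alt

/-!
# S3618, part B: the map `κ` (helper559, task of helper426)

`exists_kappa` : section 3 (c) of the plan of helper426.

Let `W` be the image in `Perm B` of the stabilizer of `b`, `D x` the set of points of `B` moved by `x`.
* `W` does not contain `Alt(B)` : otherwise every `d`-set would be `D x` for some `x ∈ XX` moving `b`, against `hdis`;
* if `x ∈ XX` moves `b`, the members `y` with `D y` disjoint from `D x` fix `b`, so `W ≥ Alt (B - D x)`;
* let `S` be maximal with `W ≥ Alt S` and `S ⊇ B - D x₀`; then `S ⊇ B - D x` for all `x ∈ XX` moving `b`, and `S ≠ B`;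
* `κ ∉ S`: then `κ ∈ D x` for all `x ∈ XX` moving `b`; conversely, `W ≥ Alt (B - κ)`, so `κ` is fixed by `W`.
-/

set_option autoImplicit false
set_option linter.unusedSectionVars false

open Equiv Equiv.Perm MulAction Cfsg.Agent.H426.FC

namespace Cfsg.Agent.H559.FC

universe u v

section

variable {M : Type u} [Group M] {Ω : Type v} {B : Type v} [Fintype B] [DecidableEq B] [MulAction M Ω] [MulAction M B]

/-- the image of the stabilizer of `b` -/
def WB (M : Type u) [Group M] (Ω : Type v) (B : Type v) [MulAction M Ω] [MulAction M B] (b : Ω) :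
    Subgroup (Perm B) := (stabilizer M b).map (toPermHom M B)

theorem mem_supp {x : M} {β : B} : β ∈ (toPermHom M B x).support ↔ x • β ≠ β := by
  rw [mem_support, toPermHom_apply, toPerm_apply]

theorem WB_mem {b : Ω} {x : M} (hx : x • b = b) : toPermHom M B x ∈ WB M Ω B b :=
  ⟨x, mem_stabilizer_iff.2 hx, rfl⟩

/-- the support of a permutation of odd prime order has at least three points -/
theorem three_le {p : ℕ} [Fact p.Prime] (hp : p ≠ 2) {x : Perm B} (h : orderOf x = p) : 3 ≤ x.support.card := by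
  have hpp : p.Prime := Fact.out
  by_contra hlt
  have h1 : x.support.card ≠ 1 := card_support_ne_one x
  have h2 : x.support.card = 0 ∨ x.support.card = 2 := by omega
  rcases h2 with h2 | h2
  · rw [Finset.card_eq_zero, support_eq_empty_iff] at h2
    rw [h2, orderOf_one] at h
    exact hpp.one_lt.ne h
  · rw [card_support_eq_two] at h2
    exact hp (by rw [← h, h2.orderOf])

variable {p d : ℕ} [Fact p.Prime] (hp : p ≠ 2) (XX : Set M)
    (hconj : ∀ m : M, ∀ x ∈ XX, m * x * m⁻¹ ∈ XX) (hd : ∀ x ∈ XX, (toPermHom M B x).support.card = d)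
    (hord : ∀ x ∈ XX, orderOf (toPermHom M B x) = p) (h2 : 2 * d ≤ Fintype.card B)
    (halt : alternatingGroup B ≤ (toPermHom M B).range)
    (hdis : ∀ x ∈ XX, ∀ y ∈ XX, (∀ β : B, x • β = β ∨ y • β = β) → ∀ b : Ω, x • b = b ∨ y • b = b)
    (b : Ω) (hb : ∃ x ∈ XX, x • b ≠ b)

include hp hconj hd hord h2 hdis hb in
/-- the image of the stabilizer does not contain `Alt(B)` -/
theorem not_univ : ¬ A3 (WB M Ω B b) Finset.univ := by
  intro hA
  have hle := Cfsg.Agent.H355.FC.A3.alternating_le hA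
  obtain ⟨x, hx, hxb⟩ := hb
  have h3 : 3 ≤ d := hd x hx ▸ three_le hp (hord x hx)
  obtain ⟨D, hD, hDc⟩ : ∃ D : Finset B, D ⊆ (toPermHom M B x).supportᶜ ∧ D.card = d := by
    apply Finset.exists_subset_card_eq
    rw [Finset.card_compl, hd x hx]
    omega
  obtain ⟨y', ⟨y, ⟨hy, hyb⟩, rfl⟩, hyD⟩ := Cfsg.Agent.H355.FC.exists_support (d := d)
    ((toPermHom M B) '' {x | x ∈ XX ∧ x • b ≠ b}) ⟨_, x, ⟨hx, hxb⟩, rfl⟩ (by
      rintro τ hτ _ ⟨y, ⟨hy, hyb⟩, rfl⟩
      obtain ⟨m, hm, rfl⟩ := hle hτ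
      refine ⟨m * y * m⁻¹, ⟨hconj m y hy, fun h => hyb ?_⟩, by rw [map_mul, map_mul, map_inv]⟩
      have hmb : m • b = b := mem_stabilizer_iff.1 hm
      have hmb' : m⁻¹ • b = b := inv_smul_eq_iff.2 hmb.symm
      rw [mul_smul, mul_smul, hmb'] at h
      rw [← smul_left_cancel_iff m, h, hmb]) (by
      rintro _ ⟨y, ⟨hy, -⟩, rfl⟩
      exact hd y hy) (by omega) D hDc
  have h4 := hdis x hx y hy (fun β => ?_) b
  · exact h4.elim hxb hyb
  · by_cases hβ : x • β = β
    · exact Or.inl hβ
    · right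
      by_contra hβ'
      have h5 : β ∈ D := by rw [← hyD]; exact mem_supp.2 hβ'
      exact Finset.mem_compl.1 (hD h5) (mem_supp.2 hβ)

include hp hconj hd hord h2 halt hb in
/-- if the members of `XX` supported in `S` fix `b` then `W ≥ Alt(S)` -/
theorem A3_of_fix (S : Finset B) (hS : d ≤ S.card)
    (h : ∀ x ∈ XX, (toPermHom M B x).support ⊆ S → x • b = b) : A3 (WB M Ω B b) S := by
  obtain ⟨x, hx, hxb⟩ := hb
  have h1 := Cfsg.Agent.H355.FC.A3_closure (p := p) (d := d) hp ((toPermHom M B) '' XX) ⟨_, x, hx, rfl⟩ (by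
      rintro τ hτ _ ⟨y, hy, rfl⟩
      obtain ⟨m, rfl⟩ := halt hτ
      exact ⟨m * y * m⁻¹, hconj m y hy, by rw [map_mul, map_mul, map_inv]⟩) (by
      rintro _ ⟨y, hy, rfl⟩
      exact hd y hy) (by
      rintro _ ⟨y, hy, rfl⟩
      exact hord y hy) h2 S hS
  have h3 : Subgroup.closure {x ∈ (toPermHom M B) '' XX | x.support ⊆ S} ≤ WB M Ω B b := by
    rw [Subgroup.closure_le]
    rintro _ ⟨⟨y, hy, rfl⟩, hyS⟩
    exact WB_mem (h y hy hyS)
  exact fun σ hσ hσS => h3 (h1 σ hσ hσS)

/-- **KAPPA** (section 3 (c) of the plan) -/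
theorem exists_kappa {M : Type u} [Group M] {Ω : Type v} {B : Type v} [Fintype B] [DecidableEq B] [MulAction M Ω]
    [MulAction M B] {p d : ℕ} [Fact p.Prime] (hp : p ≠ 2) (XX : Set M)
    (hconj : ∀ m : M, ∀ x ∈ XX, m * x * m⁻¹ ∈ XX) (hd : ∀ x ∈ XX, (toPermHom M B x).support.card = d)
    (hord : ∀ x ∈ XX, orderOf (toPermHom M B x) = p) (h2 : 2 * d ≤ Fintype.card B)
    (halt : alternatingGroup B ≤ (toPermHom M B).range)
    (hdis : ∀ x ∈ XX, ∀ y ∈ XX, (∀ β : B, x • β = β ∨ y • β = β) → ∀ b : Ω, x • b = b ∨ y • b = b)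
    (b : Ω) (hb : ∃ x ∈ XX, x • b ≠ b) : ∃! κ : B, ∀ x ∈ XX, x • b ≠ b ↔ x • κ ≠ κ := by
  classical
  have hnu := not_univ hp XX hconj hd hord h2 hdis b hb
  have hfix := A3_of_fix hp XX hconj hd hord h2 halt b hb
  obtain ⟨x₀, hx₀, hxb₀⟩ := hb
  have h3 : 3 ≤ d := hd x₀ hx₀ ▸ three_le hp (hord x₀ hx₀)
  -- the complements
  have hcompl : ∀ x ∈ XX, x • b ≠ b → A3 (WB M Ω B b) (toPermHom M B x).supportᶜ := by
    intro x hx hxb
    apply hfix
    · rw [Finset.card_compl, hd x hx]
      omega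
    · intro y hy hys
      refine (hdis x hx y hy (fun β => ?_) b).resolve_left hxb
      by_cases hβ : x • β = β
      · exact Or.inl hβ
      · right
        by_contra hβ'
        exact Finset.mem_compl.1 (hys (mem_supp.2 hβ')) (mem_supp.2 hβ)
  -- the maximal set
  obtain ⟨S, hS, hmax⟩ := (Finset.univ.filter fun S : Finset B =>
    A3 (WB M Ω B b) S ∧ (toPermHom M B x₀).supportᶜ ⊆ S).exists_max_image Finset.card
      ⟨_, Finset.mem_filter.2 ⟨Finset.mem_univ _, hcompl x₀ hx₀ hxb₀, subset_rfl⟩⟩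
  obtain ⟨-, hSA, hS0⟩ := Finset.mem_filter.1 hS
  have hSc : d ≤ S.card := by
    refine le_trans ?_ (Finset.card_le_card hS0)
    rw [Finset.card_compl, hd x₀ hx₀]
    omega
  have hsub : ∀ x ∈ XX, x • b ≠ b → (toPermHom M B x).supportᶜ ⊆ S := by
    intro x hx hxb
    have h4 : ((toPermHom M B x₀).supportᶜ ∩ (toPermHom M B x).supportᶜ).Nonempty := by
      rw [← Finset.compl_union]
      rw [Finset.nonempty_iff_ne_empty]
      intro h5
      rw [Finset.compl_eq_empty_iff] at h5
      have h6 := Finset.card_union_add_card_inter (toPermHom M B x₀).support (toPermHom M B x).support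
      rw [h5, hd x₀ hx₀, hd x hx, Finset.card_univ] at h6
      have h7 : ((toPermHom M B x₀).support ∩ (toPermHom M B x).support).card = 0 := by omega
      rw [Finset.card_eq_zero] at h7
      refine (hdis x₀ hx₀ x hx (fun β => ?_) b).elim hxb₀ hxb
      by_cases hβ : x₀ • β = β
      · exact Or.inl hβ
      · right
        by_contra hβ'
        have h8 : β ∈ (toPermHom M B x₀).support ∩ (toPermHom M B x).support :=
          Finset.mem_inter.2 ⟨mem_supp.2 hβ, mem_supp.2 hβ'⟩
        rw [h7] at h8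
        exact Finset.notMem_empty _ h8
    have h9 : A3 (WB M Ω B b) (S ∪ (toPermHom M B x).supportᶜ) := by
      apply Cfsg.Agent.H355.FC.A3.union hSA (hcompl x hx hxb) (by omega)
      · rw [Finset.card_compl, hd x hx]
        omega
      · exact h4.mono (Finset.inter_subset_inter_right hS0)
    have h10 := hmax _ (Finset.mem_filter.2 ⟨Finset.mem_univ _, h9, hS0.trans Finset.subset_union_left⟩)
    have h11 := Finset.eq_of_subset_of_card_le Finset.subset_union_left h10
    rw [h11]
    exact Finset.subset_union_right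
  obtain ⟨κ, hκ⟩ : ∃ κ, κ ∉ S := by
    by_contra hne
    push Not at hne
    apply hnu
    rwa [← Finset.eq_univ_iff_forall.2 hne]
  have hmove : ∀ x ∈ XX, x • b ≠ b → x • κ ≠ κ := by
    intro x hx hxb h
    exact hκ (hsub x hx hxb (Finset.mem_compl.2 fun h' => mem_supp.1 h' h))
  -- all even permutations fixing `κ`
  have hκA : A3 (WB M Ω B b) {κ}ᶜ := by
    apply hfix
    · rw [Finset.card_compl, Finset.card_singleton]
      omega
    · intro x hx hxs
      by_contra hxb
      have h4 := hxs (mem_supp.2 (hmove x hx hxb))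
      rw [Finset.mem_compl, Finset.mem_singleton] at h4
      exact h4 rfl
  have hconv : ∀ x ∈ XX, x • κ ≠ κ → x • b ≠ b := by
    intro x hx hxκ hxb
    have hxW : toPermHom M B x ∈ WB M Ω B b := WB_mem hxb
    have h4 : A3 (WB M Ω B b) {x • κ}ᶜ := by
      intro σ hσ hσs
      have h5 : (toPermHom M B x)⁻¹ * σ * (toPermHom M B x) ∈ WB M Ω B b := by
        apply hκA
        · have h6 : (toPermHom M B x)⁻¹ * σ * (toPermHom M B x) =
              (toPermHom M B x)⁻¹ * σ * ((toPermHom M B x)⁻¹)⁻¹ := by rw [inv_inv]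
          rw [h6]
          have h7 : ((toPermHom M B x)⁻¹ * σ * ((toPermHom M B x)⁻¹)⁻¹).cycleType = σ.cycleType := cycleType_conj
          unfold IsThreeCycle at hσ ⊢
          rw [h7, hσ]
        · intro β hβ
          rw [Finset.mem_compl, Finset.mem_singleton]
          rintro rfl
          rw [mem_support] at hβ
          apply hβ
          have h6 : σ (x • β) = x • β := by
            by_contra h7
            have h8 := hσs (mem_support.2 h7)
            rw [Finset.mem_compl, Finset.mem_singleton] at h8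
            exact h8 rfl
          rw [mul_apply, mul_apply, toPermHom_apply, toPerm_apply, h6, Perm.inv_eq_iff_eq]
          rfl
      have h6 := mul_mem (mul_mem hxW h5) (inv_mem hxW)
      have h7 : toPermHom M B x * ((toPermHom M B x)⁻¹ * σ * (toPermHom M B x)) * (toPermHom M B x)⁻¹ = σ := by group
      rwa [h7] at h6
    have h5 := Cfsg.Agent.H355.FC.A3.union hκA h4 (by rw [Finset.card_compl, Finset.card_singleton]; omega)
      (by rw [Finset.card_compl, Finset.card_singleton]; omega) (by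
        rw [← Finset.compl_union, Finset.nonempty_iff_ne_empty]
        intro h6
        rw [Finset.compl_eq_empty_iff] at h6
        have h7 := Finset.card_union_le {κ} {x • κ}
        rw [h6, Finset.card_singleton, Finset.card_singleton, Finset.card_univ] at h7
        omega)
    apply hnu
    have h6 : ({κ}ᶜ ∪ {x • κ}ᶜ : Finset B) = Finset.univ := by
      rw [← Finset.compl_inter, Finset.singleton_inter_of_notMem, Finset.compl_empty]
      rw [Finset.mem_singleton]
      exact fun h => hxκ h.symm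
    rwa [h6] at h5
  refine ⟨κ, fun x hx => ⟨hmove x hx, hconv x hx⟩, ?_⟩
  intro κ' hκ'
  by_contra hne
  -- a member moving `κ` and not `κ'`
  obtain ⟨D, hκD, hD, hDc⟩ : ∃ D : Finset B, {κ} ⊆ D ∧ D ⊆ {κ'}ᶜ ∧ D.card = d := by
    apply Finset.exists_subsuperset_card_eq
    · rw [Finset.singleton_subset_iff, Finset.mem_compl, Finset.mem_singleton]
      exact fun h => hne h.symm
    · rw [Finset.card_singleton]
      omega
    · rw [Finset.card_compl, Finset.card_singleton]
      omega
  obtain ⟨y', ⟨y, hy, rfl⟩, hyD⟩ := Cfsg.Agent.H355.FC.exists_support (d := d)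
    ((toPermHom M B) '' XX) ⟨_, x₀, hx₀, rfl⟩ (by
      rintro τ hτ _ ⟨y, hy, rfl⟩
      obtain ⟨m, rfl⟩ := halt hτ
      exact ⟨m * y * m⁻¹, hconj m y hy, by rw [map_mul, map_mul, map_inv]⟩) (by
      rintro _ ⟨y, hy, rfl⟩
      exact hd y hy) (by omega) D hDc
  have h4 : y • κ ≠ κ := mem_supp.1 (by rw [hyD]; exact Finset.singleton_subset_iff.1 hκD)
  have h5 : y • κ' ≠ κ' := (hκ' y hy).1 (hconv y hy h4)
  have h6 := hD (by rw [← hyD]; exact mem_supp.2 h5)
  rw [Finset.mem_compl, Finset.mem_singleton] at h6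
  exact h6 rfl

end

end Cfsg.Agent.H559.FC
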